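import Groth.Agent.H40.DGE.Main
import Groth.Agent.H40.DG.AffineHom
import Groth.Agent.H40.DF.BaseChange

/-!
# A chart from effectivity of the base change of a descent datum to an open of the base
-/

set_option autoImplicit false
set_option backward.isDefEq.respectTransparency.types false
universe w u

open CategoryTheory CategoryTheory.Limits AlgebraicGeometry

namespace Groth.Agent.H40.DGE

open Desc Groth.Agent.H40.DQ Groth.Agent.H40.DG

variable {X S : Scheme.{u}} {p : X ⟶ S} (D : Desc.SchDDFam (fun _ : PUnit.{w + 1} => p))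
  (S₀ : S.Opens)

/-- the base change of `D` to the open `S₀` of `S`. -/
noncomputable abbrev bcD : Desc.SchDDFam (fun _ : PUnit.{w + 1} => pullback.snd p S₀.ι) :=
  (Desc.pullDDFam (f := fun _ : PUnit.{w + 1} => p)
    (f' := fun _ : PUnit.{w + 1} => pullback.snd p S₀.ι) (α := id) (p := S₀.ι)
    (p' := fun _ => pullback.fst p S₀.ι) (fun _ => pullback.condition)).obj D

/-- the descent datum relative to the single morphism `p`. -/
noncomputable abbrev D₀ : Desc.SchDD p := (Desc.SchDDFam.toSchDD p).obj D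

/-- the preimage of `S₀` in `V`. -/
noncomputable abbrev Wo : (D.obj PUnit.unit).left.Opens := (D.obj PUnit.unit).hom ⁻¹ᵁ (p ⁻¹ᵁ S₀)

theorem tr_D₀ {T : Scheme.{u}} (v : T ⟶ (D.obj PUnit.unit).left) (x₁ : T ⟶ X)
    (h : (v ≫ (D.obj PUnit.unit).hom) ≫ p = x₁ ≫ p) :
    DQ.tr (D₀ D) v x₁ h = DF.tr D (i := PUnit.unit) (j := PUnit.unit) v x₁ h := rfl

/-- `W ⟶ S₀`. -/
noncomputable def rB : (Wo D S₀).toScheme ⟶ S₀.toScheme :=
  IsOpenImmersion.lift S₀.ι ((Wo D S₀).ι ≫ (D.obj PUnit.unit).hom ≫ p) (by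
    rw [Scheme.Opens.range_ι]
    rintro _ ⟨x, rfl⟩
    exact x.2)

@[reassoc (attr := simp)]
theorem rB_ι : rB D S₀ ≫ S₀.ι = (Wo D S₀).ι ≫ (D.obj PUnit.unit).hom ≫ p :=
  IsOpenImmersion.lift_fac _ _ _

/-- `W ⟶ V ×_X X₀`. -/
noncomputable def aB : (Wo D S₀).toScheme ⟶
    pullback (D.obj PUnit.unit).hom (pullback.fst p S₀.ι) :=
  pullback.lift (Wo D S₀).ι
    (pullback.lift ((Wo D S₀).ι ≫ (D.obj PUnit.unit).hom) (rB D S₀) (by rw [rB_ι, Category.assoc]))
    (by rw [pullback.lift_fst])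

@[reassoc (attr := simp)]
theorem aB_fst : aB D S₀ ≫ pullback.fst _ _ = (Wo D S₀).ι := pullback.lift_fst _ _ _

@[reassoc (attr := simp)]
theorem aB_snd_fst : aB D S₀ ≫ pullback.snd _ _ ≫ pullback.fst p S₀.ι =
    (Wo D S₀).ι ≫ (D.obj PUnit.unit).hom := by
  unfold aB
  rw [pullback.lift_snd_assoc, pullback.lift_fst]

@[reassoc (attr := simp)]
theorem aB_snd_snd : aB D S₀ ≫ pullback.snd _ _ ≫ pullback.snd p S₀.ι = rB D S₀ := by
  unfold aB
  rw [pullback.lift_snd_assoc, pullback.lift_snd]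

/-- `V ×_X X₀ ⟶ W`. -/
noncomputable def bB : pullback (D.obj PUnit.unit).hom (pullback.fst p S₀.ι) ⟶
    (Wo D S₀).toScheme :=
  IsOpenImmersion.lift (Wo D S₀).ι (pullback.fst _ _) (by
    rw [Scheme.Opens.range_ι]
    rintro _ ⟨z, rfl⟩
    change (pullback.fst (D.obj PUnit.unit).hom (pullback.fst p S₀.ι) ≫
      (D.obj PUnit.unit).hom ≫ p) z ∈ S₀
    rw [pullback.condition_assoc, pullback.condition, Scheme.Hom.comp_apply,
      Scheme.Hom.comp_apply]
    exact (pullback.snd p S₀.ι (pullback.snd (D.obj PUnit.unit).hom (pullback.fst p S₀.ι) z)).2)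

@[reassoc (attr := simp)]
theorem bB_ι : bB D S₀ ≫ (Wo D S₀).ι = pullback.fst _ _ := IsOpenImmersion.lift_fac _ _ _

theorem aB_bB : aB D S₀ ≫ bB D S₀ = 𝟙 _ := by
  rw [← cancel_mono (Wo D S₀).ι, Category.assoc, bB_ι, aB_fst, Category.id_comp]

theorem bB_aB : bB D S₀ ≫ aB D S₀ = 𝟙 _ := by
  apply pullback.hom_ext
  · rw [Category.assoc, aB_fst, bB_ι, Category.id_comp]
  · apply pullback.hom_ext
    · rw [Category.assoc, Category.assoc, aB_snd_fst, bB_ι_assoc, Category.id_comp]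
      exact pullback.condition
    · rw [← cancel_mono S₀.ι]
      simp only [Category.assoc]
      rw [aB_snd_snd_assoc, rB_ι, bB_ι_assoc, Category.id_comp, ← pullback.condition,
        pullback.condition_assoc]

instance : IsIso (aB D S₀) := ⟨bB D S₀, aB_bB D S₀, bB_aB D S₀⟩

variable (U₀ : Over S₀.toScheme)

variable (p) in
/-- `X₀ ×_{S₀} U₀ ⟶ X ×_S U₀`. -/
noncomputable def cB : pullback (pullback.snd p S₀.ι) U₀.hom ⟶ pullback p (U₀.hom ≫ S₀.ι) :=
  pullback.lift (pullback.fst _ _ ≫ pullback.fst p S₀.ι) (pullback.snd _ _) (by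
    rw [Category.assoc, pullback.condition, ← Category.assoc, pullback.condition, Category.assoc])

@[reassoc (attr := simp)]
theorem cB_fst : cB p S₀ U₀ ≫ pullback.fst p (U₀.hom ≫ S₀.ι) =
    pullback.fst _ _ ≫ pullback.fst p S₀.ι := pullback.lift_fst _ _ _

@[reassoc (attr := simp)]
theorem cB_snd : cB p S₀ U₀ ≫ pullback.snd p (U₀.hom ≫ S₀.ι) = pullback.snd _ _ :=
  pullback.lift_snd _ _ _

variable (p) in
/-- `X ×_S U₀ ⟶ X₀ ×_{S₀} U₀`. -/
noncomputable def dB : pullback p (U₀.hom ≫ S₀.ι) ⟶ pullback (pullback.snd p S₀.ι) U₀.hom :=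
  pullback.lift (pullback.lift (pullback.fst _ _) (pullback.snd _ _ ≫ U₀.hom) (by
    rw [pullback.condition, Category.assoc])) (pullback.snd _ _) (by rw [pullback.lift_snd])

@[reassoc (attr := simp)]
theorem dB_fst_fst : dB p S₀ U₀ ≫ pullback.fst _ _ ≫ pullback.fst p S₀.ι =
    pullback.fst _ _ := by
  unfold dB
  rw [pullback.lift_fst_assoc, pullback.lift_fst]

@[reassoc (attr := simp)]
theorem dB_fst_snd : dB p S₀ U₀ ≫ pullback.fst _ _ ≫ pullback.snd p S₀.ι =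
    pullback.snd _ _ ≫ U₀.hom := by
  unfold dB
  rw [pullback.lift_fst_assoc, pullback.lift_snd]

@[reassoc (attr := simp)]
theorem dB_snd : dB p S₀ U₀ ≫ pullback.snd _ _ = pullback.snd _ _ := pullback.lift_snd _ _ _

variable (p) in
theorem cB_dB : cB p S₀ U₀ ≫ dB p S₀ U₀ = 𝟙 _ := by
  apply pullback.hom_ext
  · apply pullback.hom_ext
    · rw [Category.assoc, Category.assoc, dB_fst_fst, cB_fst, Category.id_comp]
    · rw [Category.assoc, Category.assoc, dB_fst_snd, cB_snd_assoc, Category.id_comp,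
        pullback.condition]
  · rw [Category.assoc, dB_snd, cB_snd, Category.id_comp]

variable (p) in
theorem dB_cB : dB p S₀ U₀ ≫ cB p S₀ U₀ = 𝟙 _ := by
  apply pullback.hom_ext
  · rw [Category.assoc, cB_fst, dB_fst_fst, Category.id_comp]
  · rw [Category.assoc, cB_snd, dB_snd, Category.id_comp]

instance : IsIso (cB p S₀ U₀) := ⟨dB p S₀ U₀, cB_dB p S₀ U₀, dB_cB p S₀ U₀⟩

variable {D S₀ U₀}
variable (e : (Desc.toDDFam (fun _ : PUnit.{w + 1} => pullback.snd p S₀.ι)).obj U₀ ≅ bcD D S₀)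

/-- the component of `e⁻¹`. -/
noncomputable def kB : pullback (D.obj PUnit.unit).hom (pullback.fst p S₀.ι) ⟶
    pullback (pullback.snd p S₀.ι) U₀.hom := (e.inv.hom PUnit.unit).left

/-- the component of `e`. -/
noncomputable def kB' : pullback (pullback.snd p S₀.ι) U₀.hom ⟶
    pullback (D.obj PUnit.unit).hom (pullback.fst p S₀.ι) := (e.hom.hom PUnit.unit).left

theorem kB_kB' : kB e ≫ kB' e = 𝟙 _ :=
  congrArg (fun a : bcD D S₀ ⟶ bcD D S₀ => (a.hom PUnit.unit).left) e.inv_hom_id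

theorem kB'_kB : kB' e ≫ kB e = 𝟙 _ :=
  congrArg (fun a : (Desc.toDDFam (fun _ : PUnit.{w + 1} => pullback.snd p S₀.ι)).obj U₀ ⟶ _ =>
    (a.hom PUnit.unit).left) e.hom_inv_id

instance : IsIso (kB e) := ⟨kB' e, kB_kB' e, kB'_kB e⟩

@[reassoc (attr := simp)]
theorem kB_fst : kB e ≫ pullback.fst (pullback.snd p S₀.ι) U₀.hom =
    pullback.snd (D.obj PUnit.unit).hom (pullback.fst p S₀.ι) :=
  Over.w (e.inv.hom PUnit.unit)

/-- the quotient map of the chart. -/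
noncomputable def mB : (Wo D S₀).toScheme ⟶ U₀.left :=
  aB D S₀ ≫ kB e ≫ pullback.snd (pullback.snd p S₀.ι) U₀.hom

theorem mB_hom : mB e ≫ U₀.hom = rB D S₀ := by
  unfold mB
  rw [Category.assoc, Category.assoc, ← pullback.condition, kB_fst_assoc, aB_snd_snd]

theorem mB_w : ((Wo D S₀).ι ≫ (D.obj PUnit.unit).hom) ≫ p = mB e ≫ U₀.hom ≫ S₀.ι := by
  rw [← Category.assoc (mB e), mB_hom, rB_ι, Category.assoc]

theorem mB_inv_aux {T : Scheme.{u}} (v v' : T ⟶ (Wo D S₀).toScheme) (x₁ : T ⟶ X)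
    (h : ((v ≫ (Wo D S₀).ι) ≫ (D.obj PUnit.unit).hom) ≫ p = x₁ ≫ p)
    (hv' : v' ≫ (Wo D S₀).ι = DF.tr D (i := PUnit.unit) (j := PUnit.unit) (v ≫ (Wo D S₀).ι) x₁ h) :
    v' ≫ mB e = v ≫ mB e := by
  have hr : v' ≫ rB D S₀ = v ≫ rB D S₀ := by
    rw [← cancel_mono S₀.ι, Category.assoc, Category.assoc, rB_ι, reassoc_of% hv', DF.tr_hom_assoc]
    simp only [Category.assoc] at h
    exact h.symm
  have hx : x₁ ≫ p = (v ≫ rB D S₀) ≫ S₀.ι := by
    rw [Category.assoc, rB_ι, ← h]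
    simp only [Category.assoc]
  let x₁' : T ⟶ pullback p S₀.ι := pullback.lift x₁ (v ≫ rB D S₀) hx
  have hx1 : x₁' ≫ pullback.fst p S₀.ι = x₁ := pullback.lift_fst _ _ _
  have hx2 : x₁' ≫ pullback.snd p S₀.ι = v ≫ rB D S₀ := pullback.lift_snd _ _ _
  obtain ⟨z, hz⟩ : ∃ z : T ⟶ pullback (D.obj PUnit.unit).hom (pullback.fst p S₀.ι),
      z = v ≫ aB D S₀ := ⟨_, rfl⟩
  have hA0 : (z ≫ pullback.snd (D.obj PUnit.unit).hom (pullback.fst p S₀.ι)) ≫
      pullback.snd p S₀.ι = x₁' ≫ pullback.snd p S₀.ι := by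
    rw [hx2, hz, Category.assoc, Category.assoc, aB_snd_snd]
  have hA : v' ≫ aB D S₀ = DF.tr (pullDDFamObj (f := fun _ : PUnit.{w + 1} => p)
      (f' := fun _ : PUnit.{w + 1} => pullback.snd p S₀.ι) (α := id) (p := S₀.ι)
      (p' := fun _ => pullback.fst p S₀.ι) (fun _ => pullback.condition) D)
      (i := PUnit.unit) (j := PUnit.unit) z x₁' hA0 := by
    apply DF.tr_pull_ext (f := fun _ : PUnit.{w + 1} => p)
      (f' := fun _ : PUnit.{w + 1} => pullback.snd p S₀.ι) (α := id) (p := S₀.ι)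
      (p' := fun _ => pullback.fst p S₀.ι) (fun _ => pullback.condition) D
      (j₀ := PUnit.unit) (j₁ := PUnit.unit) z x₁' hA0
    · rw [Category.assoc, aB_fst, hv']
      exact DF.tr_congr D (by rw [hz, Category.assoc, aB_fst]) hx1.symm _ _
    · apply pullback.hom_ext
      · rw [Category.assoc, Category.assoc, aB_snd_fst, reassoc_of% hv', DF.tr_hom, hx1]
      · rw [Category.assoc, Category.assoc, aB_snd_snd, hr, hx2]
  have hB0 : ((z ≫ kB e) ≫ pullback.fst (pullback.snd p S₀.ι) U₀.hom) ≫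
      pullback.snd p S₀.ι = x₁' ≫ pullback.snd p S₀.ι := by
    rw [Category.assoc z, kB_fst]
    exact hA0
  have hB : DF.tr (pullDDFamObj (f := fun _ : PUnit.{w + 1} => p)
      (f' := fun _ : PUnit.{w + 1} => pullback.snd p S₀.ι) (α := id) (p := S₀.ι)
      (p' := fun _ => pullback.fst p S₀.ι) (fun _ => pullback.condition) D)
      (i := PUnit.unit) (j := PUnit.unit) z x₁' hA0 ≫ kB e =
      DF.tr ((Desc.toDDFam (fun _ : PUnit.{w + 1} => pullback.snd p S₀.ι)).obj U₀)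
        (i := PUnit.unit) (j := PUnit.unit) (z ≫ kB e) x₁' hB0 :=
    DF.hom_tr e.inv (i := PUnit.unit) (j := PUnit.unit) z x₁' hA0 hB0
  have hC := DF.tr_can_snd (f := fun _ : PUnit.{w + 1} => pullback.snd p S₀.ι) U₀
    (i := PUnit.unit) (j := PUnit.unit) (z ≫ kB e) x₁' hB0
  have e1 : v' ≫ mB e =
      ((v' ≫ aB D S₀) ≫ kB e) ≫ pullback.snd (pullback.snd p S₀.ι) U₀.hom := by
    unfold mB
    simp only [Category.assoc]
  have e2 : ((v' ≫ aB D S₀) ≫ kB e) ≫ pullback.snd (pullback.snd p S₀.ι) U₀.hom =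
      (z ≫ kB e) ≫ pullback.snd (pullback.snd p S₀.ι) U₀.hom :=
    (congrArg (fun t => (t ≫ kB e) ≫ pullback.snd (pullback.snd p S₀.ι) U₀.hom) hA).trans
      ((congrArg (· ≫ pullback.snd (pullback.snd p S₀.ι) U₀.hom) hB).trans hC)
  rw [e1, e2, hz]
  unfold mB
  simp only [Category.assoc]

theorem mono_Wo : Mono (Wo D S₀).ι := inferInstance

theorem isQuot_mB_aux : DG.IsQuot (@subDD _ _ _ (D₀ D) _ (Wo D S₀).ι
    (mono_Wo (D := D) (S₀ := S₀))
    (stableMono_of_isStable _ (DG.isStable_preimage (D₀ D) S₀))) (U₀.hom ≫ S₀.ι) (mB e) := by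
  refine ⟨mB_w e, ?_, ?_⟩
  · intro T v x₁ h
    have h' : ((v ≫ (Wo D S₀).ι) ≫ (D.obj PUnit.unit).hom) ≫ p = x₁ ≫ p := by
      rw [Category.assoc]
      exact h
    exact mB_inv_aux e v _ x₁ h' (@tr_sub _ _ _ (D₀ D) _ (Wo D S₀).ι
      (mono_Wo (D := D) (S₀ := S₀))
      (stableMono_of_isStable _ (DG.isStable_preimage (D₀ D) S₀)) T v x₁ h h')
  · have e1 : pullback.lift ((Wo D S₀).ι ≫ (D.obj PUnit.unit).hom) (mB e) (mB_w e) =
        aB D S₀ ≫ kB e ≫ cB p S₀ U₀ := by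
      apply pullback.hom_ext
      · rw [pullback.lift_fst]
        simp only [Category.assoc]
        rw [cB_fst, kB_fst_assoc, aB_snd_fst]
      · rw [pullback.lift_snd]
        simp only [Category.assoc]
        rw [cB_snd]
        rfl
    have e2 : IsIso (pullback.lift ((Wo D S₀).ι ≫ (D.obj PUnit.unit).hom) (mB e) (mB_w e)) := by
      rw [e1]
      infer_instance
    exact e2

include e in
theorem exists_isQuot_of_bcD :
    ∃ m : ((D₀ D).obj.hom ⁻¹ᵁ (p ⁻¹ᵁ S₀)).toScheme ⟶ U₀.left,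
      DG.IsQuot (subDD (D₀ D) ((D₀ D).obj.hom ⁻¹ᵁ (p ⁻¹ᵁ S₀)).ι
        (stableMono_of_isStable _ (DG.isStable_preimage (D₀ D) S₀))) (U₀.hom ≫ S₀.ι) m :=
  ⟨mB e, isQuot_mB_aux e⟩

theorem isQuot_of_dg {D : Desc.SchDD p} {M : Scheme.{u}} {q : M ⟶ S} {m : D.obj.left ⟶ M}
    (h : DG.IsQuot D q m) : DGE.IsQuot D q m := ⟨h.w, h.inv, h.iso⟩

include e in
/-- a chart over an open of the base from effectivity of the base change. -/
theorem isChart_of_bcD [Etale U₀.hom] : DGE.IsChart (D₀ D) ((D₀ D).obj.hom ⁻¹ᵁ (p ⁻¹ᵁ S₀)) := by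
  obtain ⟨m, hm⟩ := exists_isQuot_of_bcD e
  exact ⟨DG.isStable_preimage (D₀ D) S₀, U₀.left, U₀.hom ≫ S₀.ι, m, inferInstance,
    isQuot_of_dg hm⟩

end Groth.Agent.H40.DGE
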