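import Groth.Agent.H40.DGE.ChartOpen

/-!
# The glued quotient map
-/

set_option autoImplicit false
set_option backward.isDefEq.respectTransparency.types false
universe u

open CategoryTheory CategoryTheory.Limits AlgebraicGeometry

namespace Groth.Agent.H40.DGE

open Desc Groth.Agent.H40.DQ Groth.Agent.H40.DG

variable {X S : Scheme.{u}} {p : X ⟶ S} (D : Desc.SchDD p)

/-- every point lies in a chart. -/
def Covers : Prop := ∀ x : D.obj.left, ∃ W : J D, x ∈ W.1

variable {D}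

/-- the open cover of `V` by charts. -/
noncomputable def coverV (hcov : Covers D) : D.obj.left.OpenCover where
  I₀ := J D
  X W := W.1.toScheme
  f W := W.1.ι
  mem₀ := by
    rw [Scheme.presieve₀_mem_precoverage_iff]
    refine ⟨fun x ↦ ?_, inferInstance⟩
    obtain ⟨W, hW⟩ := hcov x
    exact ⟨W, ⟨x, hW⟩, rfl⟩

instance (hcov : Covers D) : PartialOrder (coverV hcov).I₀ := inferInstanceAs (PartialOrder (J D))

variable [USub p]

theorem coverV_directed (i j : J D) (x : ↥(pullback i.1.ι j.1.ι)) :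
    ∃ (k : J D) (hki : k ≤ i) (hkj : k ≤ j) (y : k.1.toScheme),
      pullback.lift (D.obj.left.homOfLE hki) (D.obj.left.homOfLE hkj)
        (by rw [Scheme.homOfLE_ι, Scheme.homOfLE_ι]) y = x := by
  have hx : (pullback.fst i.1.ι j.1.ι x).1 = (pullback.snd i.1.ι j.1.ι x).1 := by
    have := congrArg (fun φ => (Scheme.Hom.toLRSHom φ).base x)
      (pullback.condition (f := i.1.ι) (g := j.1.ι))
    exact this
  have hui : (pullback.fst i.1.ι j.1.ι x).1 ∈ i.1 := (pullback.fst i.1.ι j.1.ι x).2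
  have huj : (pullback.fst i.1.ι j.1.ι x).1 ∈ j.1 := by
    rw [hx]
    exact (pullback.snd i.1.ι j.1.ι x).2
  refine ⟨J.inf i j, J.inf_le_left i j, J.inf_le_right i j, ⟨_, ⟨hui, huj⟩⟩, ?_⟩
  apply (pullback.fst i.1.ι j.1.ι ≫ i.1.ι).isOpenEmbedding.injective
  rw [← Scheme.Hom.comp_apply, pullback.lift_fst_assoc, Scheme.homOfLE_ι]
  rfl

noncomputable instance (hcov : Covers D) : Scheme.Cover.LocallyDirected (coverV hcov) where
  trans {i j} hij := D.obj.left.homOfLE (leOfHom hij)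
  trans_id i := D.obj.left.homOfLE_rfl _
  trans_comp hij hjk := (D.obj.left.homOfLE_homOfLE _ _).symm
  w hij := D.obj.left.homOfLE_ι _
  directed {i j} x := by
    obtain ⟨k, hki, hkj, y, hy⟩ := coverV_directed (D := D) i j x
    exact ⟨k, homOfLE hki, homOfLE hkj, y, hy⟩
  property_trans hij := inferInstanceAs (IsOpenImmersion (D.obj.left.homOfLE _))

theorem quotP_aux (hcov : Covers D) {i j : (coverV hcov).I₀} (hij : i ⟶ j) :
    (coverV hcov).trans hij ≫ chartP j ≫ chartι D j = chartP i ≫ chartι D i := by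
  change D.obj.left.homOfLE (leOfHom hij) ≫ chartP j ≫ chartι D j = chartP i ≫ chartι D i
  rw [← chartP_chartT_assoc, chartT_chartι]

/-- the quotient map. -/
noncomputable def quotP (hcov : Covers D) : D.obj.left ⟶ quotY D :=
  (coverV hcov).glueMorphismsOfLocallyDirected (fun W => chartP W ≫ chartι D W)
    (fun hij => quotP_aux hcov hij)

@[reassoc]
theorem ι_quotP (hcov : Covers D) (W : J D) : W.1.ι ≫ quotP hcov = chartP W ≫ chartι D W :=
  (coverV hcov).map_glueMorphismsOfLocallyDirected _ (fun hij => quotP_aux hcov hij) W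

theorem quotP_apply (hcov : Covers D) (W : J D) (x : W.1) :
    quotP hcov x.1 = chartι D W (chartP W x) := by
  rw [← Scheme.Hom.comp_apply, ← ι_quotP hcov W, Scheme.Hom.comp_apply]
  rfl

variable (hcov : Covers D)

theorem quotP_preimage_range (W : J D) : quotP hcov ⁻¹ᵁ (chartι D W).opensRange = W.1 := by
  ext x
  constructor
  · rintro ⟨m, hm⟩
    obtain ⟨W', hW'⟩ := hcov x
    have h1 : quotP hcov x = chartι D W' (chartP W' ⟨x, hW'⟩) := quotP_apply hcov W' ⟨x, hW'⟩
    rw [h1] at hm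
    obtain ⟨k, hk, hk', z, hz, hz'⟩ := (chartι_eq_iff _ _).mp hm
    obtain ⟨xk, rfl⟩ := chartP_surjective k z
    rw [chartT_chartP_apply, chartP_eq_iff, ← Scheme.Hom.comp_apply, Scheme.homOfLE_ι] at hz'
    have hxk : x ∈ k.1 := (k.stable.mem_iff hz').mp xk.2
    exact hk hxk
  · intro hx
    exact ⟨chartP W ⟨x, hx⟩, (quotP_apply hcov W ⟨x, hx⟩).symm⟩

theorem isPullback_chart (W : J D) : IsPullback (chartP W) W.1.ι (chartι D W) (quotP hcov) :=
  IsOpenImmersion.isPullback _ _ _ _ (ι_quotP hcov W) (by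
    rw [quotP_preimage_range, Scheme.Opens.opensRange_ι])

theorem quotP_w : D.obj.hom ≫ p = quotP hcov ≫ quotQ D := by
  apply (coverV hcov).hom_ext
  intro W
  change W.1.ι ≫ D.obj.hom ≫ p = W.1.ι ≫ quotP hcov ≫ quotQ D
  rw [ι_quotP_assoc, chartι_quotQ, ← chart_w W, Category.assoc]

theorem quotP_inv {T : Scheme.{u}} (v : T ⟶ D.obj.left) (x₁ : T ⟶ X)
    (h : (v ≫ D.obj.hom) ≫ p = x₁ ≫ p) : tr D v x₁ h ≫ quotP hcov = v ≫ quotP hcov := by
  apply ((coverV hcov).pullback₁ v).hom_ext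
  intro W
  change pullback.fst v W.1.ι ≫ tr D v x₁ h ≫ quotP hcov = pullback.fst v W.1.ι ≫ v ≫ quotP hcov
  have hc : pullback.fst v W.1.ι ≫ v = pullback.snd v W.1.ι ≫ W.1.ι := pullback.condition
  have h' : ((pullback.snd v W.1.ι ≫ W.1.ι) ≫ D.obj.hom) ≫ p = (pullback.fst v W.1.ι ≫ x₁) ≫ p := by
    rw [← hc]
    simp only [Category.assoc] at h ⊢
    rw [h]
  obtain ⟨v', hv'1, hv'2⟩ := chart_inv W (pullback.snd v W.1.ι) (pullback.fst v W.1.ι ≫ x₁) h'
  have e1 : pullback.fst v W.1.ι ≫ tr D v x₁ h = v' ≫ W.1.ι := by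
    rw [hv'1, precomp_tr]
    exact tr_congr D hc rfl _ _
  rw [reassoc_of% e1, ι_quotP, reassoc_of% hv'2, ← ι_quotP, reassoc_of% hc]

end Groth.Agent.H40.DGE
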