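import Groth.Agent.H40.DG.Sub
import Groth.Agent.S3709
import Groth.Agent.H4.EqOpen

/-!
# Universally submersive morphisms: descent of morphisms into étale schemes
-/

set_option autoImplicit false
set_option backward.isDefEq.respectTransparency.types false
universe u

open CategoryTheory CategoryTheory.Limits AlgebraicGeometry

namespace Groth.Agent.H40.DGE

/-- `p` is universally submersive. -/
class USub {X S : Scheme.{u}} (p : X ⟶ S) : Prop where
  out : SGA1.UnivSubmersive p

theorem USub.of_isPullback {X S X' S' : Scheme.{u}} {p : X ⟶ S} [USub p] {i' : X' ⟶ X}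
    {p' : X' ⟶ S'} {i : S' ⟶ S} (sq : IsPullback i' p' p i) : USub p' :=
  ⟨(MorphismProperty.universally_isStableUnderBaseChange _).of_isPullback sq USub.out⟩

theorem USub.isQuotientMap {X S : Scheme.{u}} (p : X ⟶ S) [USub p] : Topology.IsQuotientMap p :=
  (USub.out (p := p)) (𝟙 X) (𝟙 S) p IsPullback.of_id_snd

theorem USub.surjective {X S : Scheme.{u}} (p : X ⟶ S) [USub p] : Function.Surjective p :=
  (USub.isQuotientMap p).surjective

/-- descent of a morphism into an étale scheme along a universally submersive morphism. -/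
theorem exists_section_of_univSubmersive {T' T Y : Scheme.{u}} (h : T' ⟶ T) [USub h]
    (q : Y ⟶ T) [Etale q] (ν' : T' ⟶ Y) (hν : ν' ≫ q = h)
    (hc : pullback.fst h h ≫ ν' = pullback.snd h h ≫ ν') :
    ∃ ν : T ⟶ Y, ν ≫ q = 𝟙 T ∧ h ≫ ν = ν' := by
  let f' : pullback (𝟙 T) h ⟶ pullback q h :=
    pullback.lift (pullback.snd _ _ ≫ ν') (pullback.snd _ _) (by rw [Category.assoc, hν])
  have hf'1 : f' ≫ pullback.fst q h = pullback.snd _ _ ≫ ν' := pullback.lift_fst _ _ _
  have hf'2 : f' ≫ pullback.snd q h = pullback.snd _ _ := pullback.lift_snd _ _ _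
  obtain ⟨u, ⟨hu1, hu2⟩, -⟩ := Groth.Agent.S3709.result h USub.out (𝟙 T) q f' hf'2 (by
    rw [hf'1, pullback.lift_snd_assoc, pullback.lift_snd_assoc, Category.assoc, Category.assoc, hc])
  refine ⟨u, hu1, ?_⟩
  let σ : T' ⟶ pullback (𝟙 T) h := pullback.lift h (𝟙 T') (by rw [Category.comp_id, Category.id_comp])
  have hσ1 : σ ≫ pullback.fst _ _ = h := pullback.lift_fst _ _ _
  have hσ2 : σ ≫ pullback.snd _ _ = 𝟙 T' := pullback.lift_snd _ _ _
  have := congrArg (σ ≫ ·) hu2
  rw [hf'1, ← Category.assoc, hσ2, Category.id_comp, ← Category.assoc, hσ1] at this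
  exact this.symm

end Groth.Agent.H40.DGE
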